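import Groth.Agent.H12Pic.InvertibleStage
import Groth.Prelude.Def_PicLoc

/-!
# Pic of an affine limit of qcqs schemes is the colimit of the Pic of the stages
-/

set_option autoImplicit false
set_option backward.isDefEq.respectTransparency false

universe u

open CategoryTheory CategoryTheory.Limits AlgebraicGeometry Opposite
open Groth.Agent.H7Lim

namespace Groth.Agent.H17.PicLim

variable {I : Type u} [SmallCategory I] [IsCofiltered I] {D : I ⥤ Scheme.{u}} {c : Cone D} (hc : IsLimit c)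
  [∀ (i j : I) (f : i ⟶ j), IsAffineHom (D.map f)] [∀ i, CompactSpace (D.obj i)]
  [∀ i, QuasiSeparatedSpace (D.obj i)]

theorem isFP_of_isInvertible {X : Scheme.{u}} {L : X.Modules} (hL : PicF.IsInvertible L) : CohB1.IsFP L :=
  H8Props.FinLocFree.isFP_of_isFinLocFree L
    (ModLocFree.isFinLocFree_of_rank (H22Alg.PB.rank_one_of_isInvertible hL))

include hc in
/-- `Pic` turns affine limits of quasi-compact quasi-separated schemes into colimits. -/
theorem nonempty_isColimit_invCl : Nonempty (IsColimit (PicLoc.invCl.mapCocone c.op)) := by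
  refine ⟨Types.FilteredColimit.isColimitOf' _ _ ?_ ?_⟩
  · rintro ⟨x, M, rfl, hM⟩
    obtain ⟨i₀⟩ : Nonempty I := IsCofiltered.nonempty
    obtain ⟨j, -, L, hL, ⟨e⟩⟩ := H12Pic.exists_invertible_stage hc i₀ hM
    exact ⟨op j, ⟨PicF.cl L, L, rfl, hL⟩, Subtype.ext (Quot.sound ⟨e.symm⟩)⟩
  · rintro ⟨i⟩ ⟨x, L, rfl, hL⟩ ⟨y, L', rfl, hL'⟩ h
    have hFP : CohB1.IsFP L := isFP_of_isInvertible hL
    have hFP' : CohB1.IsFP L' := isFP_of_isInvertible hL'
    have hr : Equivalence (fun M M' : c.pt.Modules => Nonempty (M ≅ M')) :=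
      ⟨fun _ => ⟨Iso.refl _⟩, fun ⟨e⟩ => ⟨e.symm⟩, fun ⟨e⟩ ⟨e'⟩ => ⟨e ≪≫ e'⟩⟩
    obtain ⟨e⟩ : Nonempty ((Scheme.Modules.pullback (c.π.app i)).obj L ≅ (Scheme.Modules.pullback (c.π.app i)).obj L') :=
      hr.eqvGen_iff.1 (Quot.eqvGen_exact (congrArg Subtype.val h))
    obtain ⟨j, φ, hj, hje⟩ := ModHom.exists_hom hc hFP (H29Fitt.isQCoh_of_isFP L' hFP') e.hom
    have hiso : IsIso ((Scheme.Modules.pullback (c.π.app j)).map hj) := by
      rw [show (Scheme.Modules.pullback (c.π.app j)).map hj = ((ModStage.πIso φ).app L).hom ≫ e.hom ≫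
        ((ModStage.πIso φ).app L').inv by simp [← hje]]
      infer_instance
    have hp := H06EGA9.isFP_pullback (D.map φ) hFP
    have hp' := H06EGA9.isFP_pullback (D.map φ) hFP'
    obtain ⟨k, ψ, hk⟩ := (ModStage.isIso_iff hc (H29Fitt.isQCoh_of_isFP _ hp) (H29Fitt.isQCoh_of_isFP _ hp') hj
      (H29Fitt.isFT_of_isFP _ hp) hp').1 hiso
    haveI := hk
    exact ⟨op k, (ψ ≫ φ).op, Subtype.ext (Quot.sound
      ⟨((ModStage.mapIso φ ψ).app L).symm ≪≫ asIso ((Scheme.Modules.pullback (D.map ψ)).map hj) ≪≫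
        (ModStage.mapIso φ ψ).app L'⟩)⟩

end Groth.Agent.H17.PicLim
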