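import Groth.Agent.H17.PicLim.PicColim
import Groth.Agent.H17.EtLim.LimitPresSheafify
import Groth.Agent.H17.EtLim.Basic
import Groth.Agent.H17.PullCl
import Groth.Agent.H7Lim.LFPCriterion
import Groth.Prelude.Def_PicRel2
import Groth.Prelude.Def_BigSite
import Mathlib.AlgebraicGeometry.Morphisms.Separated

/-!
# A scheme representing the relative Picard functor of a qcqs morphism is locally of finite presentation
-/

set_option autoImplicit false
set_option backward.isDefEq.respectTransparency false
set_option backward.defeqAttrib.useBackward true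
set_option linter.style.haveILetI false

universe u

open CategoryTheory CategoryTheory.Limits AlgebraicGeometry Opposite
open AlgSp

attribute [local instance] IsCofiltered.isConnected

namespace Groth.Agent.H17.PicLim

section XT

variable {X S : Scheme.{u}} (f : X ⟶ S)

/-- `T ↦ X_T`. -/
noncomputable def xtFun : Over S ⥤ Scheme.{u} where
  obj T := PicF.XT f T
  map g := PicF.XTmap f g
  map_id T := by apply pullback.hom_ext <;> simp [PicF.XTmap]
  map_comp g h := by apply pullback.hom_ext <;> simp [PicF.XTmap]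

/-- `T ↦ Pic(X_T)`. -/
noncomputable abbrev picPre : PSp S := (xtFun f).op ⋙ PicLoc.invCl

theorem isPullback_XTmap {T T' : Over S} (g : T' ⟶ T) :
    IsPullback (PicF.XTmap f g) (pullback.snd f T'.hom) (pullback.snd f T.hom) g.left := by
  refine IsPullback.of_right (h₁₂ := pullback.fst f T.hom) (h₂₂ := T.hom) (v₁₃ := f) ?_ ?_
    (IsPullback.of_hasPullback _ _)
  · simpa [PicF.XTmap, Over.w] using IsPullback.of_hasPullback f T'.hom
  · simp [PicF.XTmap]

variable [QuasiCompact f] [QuasiSeparated f]

/-- `T ↦ Pic(X_T)` is limit preserving for `X → S` quasi-compact and quasi-separated. -/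
theorem isLimitPreserving_picPre : IsLimitPreserving (picPre f) := by
  intro I _ _ D c hc hD hT
  let α : D ⋙ xtFun f ⟶ D ⋙ Over.forget S :=
    { app := fun i => pullback.snd f (D.obj i).hom
      naturality := fun i j φ => (isPullback_XTmap f (D.map φ)).w }
  have hX : IsLimit ((xtFun f).mapCone c) :=
    isLimitOfIsPullbackOfIsConnected α _ ((Over.forget S).mapCone c)
      ⟨pullback.snd f c.pt.hom, fun i => (isPullback_XTmap f (c.π.app i)).w.symm⟩
      (fun i => isPullback_XTmap f (c.π.app i)) hc
  haveI : ∀ i, IsAffine (D.obj i).left := hD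
  haveI : ∀ i, CompactSpace ((D ⋙ xtFun f).obj i) := fun i =>
    QuasiCompact.compactSpace_of_compactSpace (pullback.snd f (D.obj i).hom)
  haveI : ∀ i, QuasiSeparatedSpace ((D ⋙ xtFun f).obj i) := fun i =>
    quasiSeparatedSpace_of_quasiSeparated (pullback.snd f (D.obj i).hom)
  haveI : ∀ (i j : I) (φ : i ⟶ j), IsAffineHom ((D ⋙ xtFun f).map φ) := fun i j φ =>
    MorphismProperty.of_isPullback (P := @IsAffineHom) (isPullback_XTmap f (D.map φ)).flip
      (isAffineHom_of_isAffine _)
  obtain ⟨hP⟩ := nonempty_isColimit_invCl hX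
  exact ⟨hP⟩

end XT

/-- The functor of points of an `S`-scheme, one universe up. -/
abbrev hom1 {S : Scheme.{u}} (P : Over S) : PSp S := yoneda.obj P ⋙ uliftFunctor.{u + 1, u}

theorem isSheaf_hom1 {S : Scheme.{u}} (P : Over S) : Presheaf.IsSheaf (EtLim.Je S) (hom1 P) :=
  (isSheaf_iff_isSheaf_of_type _ _).2 (Presieve.isSheaf_of_le _
    (BigSite.J_mono BigSite.etalePrecoverage_le_fppfPrecoverage S)
    ((isSheaf_iff_isSheaf_of_type _ _).1 ((yon S).obj P).property))

variable {X S : Scheme.{u}} {f : X ⟶ S} {P : Over S} {φ : ∀ T : Over S, PicF.Cl (PicF.XT f T) → (T ⟶ P)}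

/-- The transformation to the representing scheme. -/
noncomputable def relPicHom (hP : PicRel.IsRelPic f P φ) : picPre f ⟶ hom1 P where
  app T := ↾fun c => ULift.up (φ T.unop c.1)
  naturality T T' g := by
    ext c
    exact congrArg ULift.up (hP.natural T.unop T'.unop g.unop c.1 c.2)

theorem covers_mem {T : Over S} {ι : Type u} {U : ι → T.left.Etale} (hU : EtCoh.Covers U) :
    Sieve.ofArrows (fun i => PicRel.ovr T (U i)) (fun i => PicRel.ovrHom T (U i)) ∈ EtLim.Je S T :=
  EtLim.ofArrows_mem_Je _ (fun i => (U i).prop) fun t => by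
    obtain ⟨i, y, hy⟩ := hU t
    exact ⟨i, y, hy⟩

theorem isLocallySurjective_relPicHom (hP : PicRel.IsRelPic f P φ) :
    Presheaf.IsLocallySurjective (EtLim.Je S) (relPicHom hP) where
  imageSieve_mem {T} s := by
    obtain ⟨ι, U, hU, hc⟩ := hP.locallySurjective T s.down
    refine GrothendieckTopology.superset_covering _ (Sieve.generate_le_iff _ _ |>.2 ?_) (covers_mem hU)
    rintro _ _ ⟨i⟩
    obtain ⟨c, hc, h⟩ := hc i
    exact ⟨⟨c, hc⟩, congrArg ULift.up h⟩

theorem isLocallyInjective_relPicHom (hP : PicRel.IsRelPic f P φ) :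
    Presheaf.IsLocallyInjective (EtLim.Je S) (relPicHom hP) where
  equalizerSieve_mem {T} x y h := by
    obtain ⟨ι, U, hU, hc⟩ := hP.locallyInjective T.unop x.1 y.1 x.2 y.2 (congrArg ULift.down h)
    refine GrothendieckTopology.superset_covering _ (Sieve.generate_le_iff _ _ |>.2 ?_) (covers_mem hU)
    rintro _ _ ⟨i⟩
    exact Subtype.ext (hc i)

/-- The functor of points of a scheme representing the relative Picard functor is limit preserving. -/
theorem isLimitPreserving_hom1 [QuasiCompact f] [QuasiSeparated f] (hP : PicRel.IsRelPic f P φ) :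
    IsLimitPreserving (hom1 P) := by
  obtain ⟨h₁, h₂⟩ := EtLim.relLP_iff.1 (EtLim.relLP_toUnit_iff.2 (isLimitPreserving_picPre f))
  haveI := isLocallySurjective_relPicHom hP
  haveI := isLocallyInjective_relPicHom hP
  have comm : EtLim.toUnit (picPre f) ≫ 𝟙 (EtLim.unitPSp S) = relPicHom hP ≫ EtLim.toUnit (hom1 P) := rfl
  have hi := EtLim.relInj_of_locallyBijective comm (isSheaf_hom1 P) h₂
  exact EtLim.relLP_toUnit_iff.1 (EtLim.relLP_iff.2
    ⟨EtLim.relSurj_of_locallyBijective comm (isSheaf_hom1 P) EtLim.isSheaf_unitPSp h₁ hi, hi⟩)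

/-- A scheme with limit preserving functor of points is locally of finite presentation. -/
theorem locallyOfFinitePresentation_of_isLimitPreserving (h : IsLimitPreserving (hom1 P)) :
    LocallyOfFinitePresentation P.hom := by
  refine H7Lim.locallyOfFinitePresentation_of_surjOn fun U _ => ?_
  intro J _ _ _ D t c hc hD j₀ g hg
  have hw : ∀ j, c.π.app j ≫ t.app j = c.π.app j₀ ≫ t.app j₀ := fun j => by
    obtain ⟨k, a₁, a₂, -⟩ := IsCofilteredOrEmpty.cone_objs j₀ j
    have e : ∀ {i : Jᵒᵖ} (m : k ⟶ i), c.π.app i ≫ t.app i = c.π.app k ≫ t.app k := fun m => by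
      rw [← c.w m, Category.assoc, t.naturality m]
      exact congrArg (c.π.app k ≫ ·) (Category.comp_id _)
    rw [e a₁, e a₂]
  let D' : Jᵒᵖ ⥤ Over S :=
    { obj := fun j => Over.mk (t.app j ≫ U.ι)
      map := fun {i j} m => Over.homMk (D.map m) (by
        change D.map m ≫ t.app j ≫ U.ι = t.app i ≫ U.ι
        rw [← Category.assoc, t.naturality m]
        exact congrArg (· ≫ U.ι) (Category.comp_id _))
      map_id := fun _ => Over.OverMorphism.ext (D.map_id _)
      map_comp := fun _ _ => Over.OverMorphism.ext (D.map_comp _ _) }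
  let c' : Cone D' :=
    { pt := Over.mk (g ≫ P.hom)
      π :=
      { app := fun j => Over.homMk (c.π.app j) (by
          change c.π.app j ≫ t.app j ≫ U.ι = g ≫ P.hom
          rw [hg, ← Category.assoc, hw j, Category.assoc])
        naturality := fun i j m => Over.OverMorphism.ext (c.π.naturality m) } }
  have : ∀ j, IsAffine (D.obj j) := hD
  obtain ⟨hcol⟩ := h D' c' hc hD (Scheme.isAffine_of_isLimit c hc)
  obtain ⟨⟨j⟩, ⟨x⟩, hx⟩ := Types.jointly_surjective_of_isColimit hcol (ULift.up (Over.homMk g : c'.pt ⟶ P))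
  exact ⟨j, x.left, Over.w x, congrArg (fun m => (ULift.down m).left) hx⟩

end Groth.Agent.H17.PicLim
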